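import Mathlib
import Groth.Agent.FlatLib.Slicing
import Groth.Agent.FlatLib.FlatMisc

/-!
# Openness of regularity of a sequence on the fibres of a flat module
-/

set_option autoImplicit false
universe u

open TensorProduct

noncomputable section

namespace FibRegLib

theorem mem_smul_top_iff_of_isLocalizedModule {B M N : Type u} [CommRing B] [AddCommGroup M] [Module B M]
    [AddCommGroup N] [Module B N] (q : Ideal B) [q.IsPrime] (ι : M →ₗ[B] N) [IsLocalizedModule q.primeCompl ι]
    (K : Ideal B) (m : M) :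
    ι m ∈ K • (⊤ : Submodule B N) ↔ ∃ t ∉ q, t • m ∈ K • (⊤ : Submodule B M) := by
  constructor
  · intro h
    obtain ⟨s, w, hw, hsw⟩ : ∃ (s : q.primeCompl) (w : M), w ∈ K • (⊤ : Submodule B M) ∧ (s : B) • ι m = ι w := by
      refine Submodule.smul_induction_on (p := fun z => ∃ (s : q.primeCompl) (w : M),
        w ∈ K • (⊤ : Submodule B M) ∧ (s : B) • z = ι w) h (fun a ha z _ => ?_) fun z z' hz hz' => ?_
      · obtain ⟨⟨y, s⟩, hy⟩ := IsLocalizedModule.surj q.primeCompl ι z
        refine ⟨s, a • y, Submodule.smul_mem_smul ha Submodule.mem_top, ?_⟩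
        rw [map_smul, smul_comm]
        exact congrArg (a • ·) hy
      · obtain ⟨s, w, hw, hz⟩ := hz
        obtain ⟨s', w', hw', hz'⟩ := hz'
        refine ⟨s * s', (s' : B) • w + (s : B) • w', Submodule.add_mem _ (Submodule.smul_mem _ _ hw)
          (Submodule.smul_mem _ _ hw'), ?_⟩
        rw [map_add, map_smul, map_smul, ← hz, ← hz', smul_smul, smul_smul, smul_add, Submonoid.coe_mul,
          mul_comm (s' : B)]
    rw [← map_smul] at hsw
    obtain ⟨c, hc⟩ := IsLocalizedModule.exists_of_eq (S := q.primeCompl) hsw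
    refine ⟨c * s, (c * s).2, ?_⟩
    show (((c * s : q.primeCompl) : B)) • m ∈ _
    rw [Submonoid.coe_mul, mul_smul, show (c : B) • (s : B) • m = (c : B) • w from hc]
    exact Submodule.smul_mem _ _ hw
  · rintro ⟨t, ht, h⟩
    refine FlatLib.mem_smul_top_of_unit_smul q ⟨t, ht⟩ (ι := ι) ?_
    rw [← map_smul]
    have := Submodule.mem_map_of_mem (f := ι) h
    rw [Submodule.map_smul''] at this
    exact Submodule.smul_mono le_rfl le_top this

variable {R B M : Type u} [CommRing R] [CommRing B] [Algebra R B] [AddCommGroup M] [Module B M]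
  [Module R M] [IsScalarTower R B M]

/-- The ideal of the fibre of the base through a prime. -/
abbrev fibIdeal (R : Type u) [CommRing R] {B : Type u} [CommRing B] [Algebra R B] (q : PrimeSpectrum B) : Ideal B :=
  (q.asIdeal.comap (algebraMap R B)).map (algebraMap R B)

/-- The `i`-th element of a sequence is regular, on the fibre at `q`, modulo the preceding ones. -/
def RegAt (R : Type u) [CommRing R] {B : Type u} [CommRing B] [Algebra R B] (M : Type u) [AddCommGroup M]
    [Module B M] (J : Ideal B) (f : B) (q : PrimeSpectrum B) : Prop :=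
  ∀ m : M, (∃ t ∉ q.asIdeal, t • f • m ∈ (fibIdeal R q ⊔ J) • (⊤ : Submodule B M)) →
    ∃ t ∉ q.asIdeal, t • m ∈ (fibIdeal R q ⊔ J) • (⊤ : Submodule B M)

theorem mk_mem_smul_top_iff (J K : Ideal B) (m : M) :
    (Submodule.Quotient.mk m : M ⧸ (J • (⊤ : Submodule B M))) ∈ K • (⊤ : Submodule B _) ↔
      m ∈ (K ⊔ J) • (⊤ : Submodule B M) := by
  have h : K • (⊤ : Submodule B (M ⧸ (J • (⊤ : Submodule B M)))) =
      (K • (⊤ : Submodule B M)).map (Submodule.mkQ _) := by
    rw [Submodule.map_smul'', Submodule.map_top, Submodule.range_mkQ]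
  rw [h, ← Submodule.mkQ_apply, ← Submodule.mem_comap, Submodule.comap_map_mkQ, sup_comm, ← Submodule.sup_smul]

omit [Module R M] [IsScalarTower R B M] in
theorem regAt_quotient (J : Ideal B) (f : B) (q : PrimeSpectrum B) :
    RegAt R (M ⧸ (J • (⊤ : Submodule B M))) ⊥ f q ↔ RegAt R M J f q := by
  constructor
  · rintro h m ⟨t, ht, hm⟩
    obtain ⟨t', ht', hm'⟩ := h (Submodule.Quotient.mk m) ⟨t, ht, by
      rw [sup_bot_eq, ← Submodule.Quotient.mk_smul, ← Submodule.Quotient.mk_smul, mk_mem_smul_top_iff]; exact hm⟩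
    rw [sup_bot_eq, ← Submodule.Quotient.mk_smul, mk_mem_smul_top_iff] at hm'
    exact ⟨t', ht', hm'⟩
  · rintro h m ⟨t, ht, hm⟩
    obtain ⟨m, rfl⟩ := Submodule.Quotient.mk_surjective _ m
    rw [sup_bot_eq, ← Submodule.Quotient.mk_smul, ← Submodule.Quotient.mk_smul, mk_mem_smul_top_iff] at hm
    obtain ⟨t', ht', hm'⟩ := h m ⟨t, ht, hm⟩
    exact ⟨t', ht', by rw [sup_bot_eq, ← Submodule.Quotient.mk_smul, mk_mem_smul_top_iff]; exact hm'⟩

theorem mem_flatLocus_congr {N : Type u} [AddCommGroup N] [Module B N] [Module R N] [IsScalarTower R B N]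
    (e : M ≃ₗ[B] N) {q : PrimeSpectrum B} (h : q ∈ FlatLib.flatLocus R B M) : q ∈ FlatLib.flatLocus R B N := by
  haveI : Module.Flat R (LocalizedModule q.asIdeal.primeCompl M) := h
  haveI : IsLocalizedModule q.asIdeal.primeCompl
      ((LocalizedModule.mkLinearMap q.asIdeal.primeCompl N).comp e.toLinearMap) :=
    IsLocalizedModule.of_linearEquiv_right q.asIdeal.primeCompl _ e
  exact Module.Flat.of_linearEquiv ((IsLocalizedModule.iso q.asIdeal.primeCompl
    ((LocalizedModule.mkLinearMap q.asIdeal.primeCompl N).comp e.toLinearMap)).restrictScalars R).symm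

theorem mem_flatLocus_of_not_mem {q : PrimeSpectrum B} {f : B} (hf : f ∉ q.asIdeal) (hM : ∀ m : M, f • m = 0) :
    q ∈ FlatLib.flatLocus R B M := by
  haveI : Subsingleton (LocalizedModule q.asIdeal.primeCompl M) :=
    LocalizedModule.subsingleton_iff.mpr fun m => ⟨f, hf, hM m⟩
  show Module.Flat R _
  infer_instance

variable [Algebra.FinitePresentation R B] [Module.FinitePresentation B M]

/-- Regularity on the fibre spreads, together with the flatness of the quotient. -/
theorem exists_nhd_regAt_bot (f : B) (q : PrimeSpectrum B) (hflat : q ∈ FlatLib.flatLocus R B M)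
    (hreg : RegAt R M ⊥ f q) :
    ∃ U : Set (PrimeSpectrum B), IsOpen U ∧ q ∈ U ∧ ∀ q' ∈ U,
      RegAt R M ⊥ f q' ∧ q' ∈ FlatLib.flatLocus R B (M ⧸ (Ideal.span {f} • (⊤ : Submodule B M))) := by
  by_cases hf : f ∈ q.asIdeal
  swap
  · refine ⟨PrimeSpectrum.basicOpen f, (PrimeSpectrum.basicOpen f).2, hf, fun q' hq' =>
      ⟨fun m ⟨t, ht, hm⟩ => ⟨t * f, fun h => (q'.2.mem_or_mem h).elim ht hq', by rwa [mul_smul]⟩, ?_⟩⟩
    refine mem_flatLocus_of_not_mem (f := f) hq' fun y => ?_
    obtain ⟨m, rfl⟩ := Submodule.Quotient.mk_surjective _ y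
    exact (Submodule.Quotient.mk_smul _ _ _).symm.trans (FlatLib.mk_span_singleton_smul_top_eq_zero m)
  obtain ⟨U, hU, hqU, h⟩ := FlatLib.slice_point (R := R) q f hf hflat fun m hm => by
    have := hreg m
    rw [sup_bot_eq] at this
    exact this hm
  refine ⟨U, hU, hqU, fun q' hq' => ⟨fun m ⟨t, ht, hm⟩ => ?_, (h q' hq').2⟩⟩
  obtain ⟨hreg', hflat'⟩ := h q' hq'
  rw [sup_bot_eq] at hm ⊢
  let Mq := LocalizedModule q'.asIdeal.primeCompl M
  let ι := LocalizedModule.mkLinearMap q'.asIdeal.primeCompl M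
  let μ : Mq →ₗ[R] Mq := (LinearMap.lsmul B Mq f).restrictScalars R
  have hμ : Function.Injective μ := (injective_iff_map_eq_zero μ).mpr fun x hx => by
    obtain ⟨⟨y, s⟩, hys⟩ := IsLocalizedModule.surj q'.asIdeal.primeCompl ι x
    change f • x = 0 at hx
    change s.1 • x = ι y at hys
    have h1 : ι (f • y) = 0 := by rw [map_smul, ← hys, smul_comm, hx, smul_zero]
    obtain ⟨c, hc⟩ := (IsLocalizedModule.eq_zero_iff q'.asIdeal.primeCompl ι).mp h1
    change c.1 • f • y = 0 at hc
    rw [smul_comm] at hc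
    obtain ⟨c', hc', hcy⟩ := hreg' _ hc
    have h2 : (c' * c.1 * s.1) • x = 0 := by
      rw [mul_smul, hys, ← map_smul, mul_smul, hcy, map_zero]
    exact ((Module.End.isUnit_iff _).mp (IsLocalizedModule.map_units ι (⟨c', hc'⟩ * c * s))).1
      (h2.trans (map_zero (algebraMap B (Module.End B Mq) (⟨c', hc'⟩ * c * s : q'.asIdeal.primeCompl))).symm)
  let π : Mq →ₗ[R] Mq ⧸ (Ideal.span {f} • (⊤ : Submodule B Mq)) := (Submodule.mkQ _).restrictScalars R
  have hex : Function.Exact μ π := fun x => by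
    show Submodule.Quotient.mk x = 0 ↔ x ∈ Set.range fun y => f • y
    rw [Submodule.Quotient.mk_eq_zero, Submodule.ideal_span_singleton_smul, Submodule.mem_smul_pointwise_iff_exists]
    exact ⟨fun ⟨y, _, h⟩ => ⟨y, h⟩, fun ⟨y, h⟩ => ⟨y, trivial, h⟩⟩
  haveI : Module.Flat R (Mq ⧸ (Ideal.span {f} • (⊤ : Submodule B Mq))) := by
    obtain ⟨φ, hφ⟩ := FlatLib.isLocalizedModule_quotient_span (B := B) (M := M) q'.asIdeal f
    haveI := hφ
    haveI : Module.Flat R
        (LocalizedModule q'.asIdeal.primeCompl (M ⧸ (Ideal.span {f} • (⊤ : Submodule B M)))) := hflat'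
    exact Module.Flat.of_linearEquiv ((IsLocalizedModule.iso q'.asIdeal.primeCompl φ).restrictScalars R).symm
  let p := q'.asIdeal.comap (algebraMap R B)
  have key : ∀ z : Mq, z ⊗ₜ[R] (1 : R ⧸ p) = 0 ↔ z ∈ fibIdeal R q' • (⊤ : Submodule B Mq) := fun z => by
    rw [← (TensorProduct.tensorQuotEquivQuotSMul Mq p).map_eq_zero_iff]
    rw [← map_one (Ideal.Quotient.mk p), TensorProduct.tensorQuotEquivQuotSMul_tmul_mk, one_smul,
      Submodule.Quotient.mk_eq_zero, ← Submodule.restrictScalars_mem R (fibIdeal R q' • (⊤ : Submodule B Mq)),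
      Ideal.smul_restrictScalars, Submodule.restrictScalars_top]
  have hinj := FlatLib.lTensor_injective_of_flat_coker μ π hμ hex (Submodule.mkQ_surjective _) (R ⧸ p)
  have h1 : f • ι m ∈ fibIdeal R q' • (⊤ : Submodule B Mq) := by
    rw [← map_smul, mem_smul_top_iff_of_isLocalizedModule q'.asIdeal]
    exact ⟨t, ht, hm⟩
  have h2 : ι m ⊗ₜ[R] (1 : R ⧸ p) = 0 := hinj (((LinearMap.rTensor_tmul _ μ _ _).trans ((key _).mpr h1)).trans
    (map_zero _).symm)
  exact (mem_smul_top_iff_of_isLocalizedModule q'.asIdeal ι _ m).mp ((key _).mp h2)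

variable (g : ℕ → B)

/-- The ideal of the first `i` elements. -/
abbrev pre (i : ℕ) : Ideal B := Ideal.span (g '' Set.Iio i)

/-- Regularity of a sequence on the fibre of a flat module spreads. -/
theorem exists_nhd_regSeq [IsNoetherianRing B] (q : PrimeSpectrum B) (hflat : q ∈ FlatLib.flatLocus R B M)
    (hopen : IsOpen (FlatLib.flatLocus R B M)) (n : ℕ) (hreg : ∀ i < n, RegAt R M (pre g i) (g i) q) :
    ∃ U : Set (PrimeSpectrum B), IsOpen U ∧ q ∈ U ∧ ∀ q' ∈ U, (∀ i < n, RegAt R M (pre g i) (g i) q') ∧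
      q' ∈ FlatLib.flatLocus R B (M ⧸ (pre g n • (⊤ : Submodule B M))) := by
  induction n with
  | zero =>
    have e0 : pre g 0 • (⊤ : Submodule B M) = ⊥ := by simp [pre]
    exact ⟨_, hopen, hflat, fun q' hq' => ⟨fun i hi => absurd hi (Nat.not_lt_zero i),
      mem_flatLocus_congr (Submodule.quotEquivOfEqBot _ e0).symm hq'⟩⟩
  | succ n ih =>
    obtain ⟨U, hU, hqU, hUq⟩ := ih fun i hi => hreg i (hi.trans (Nat.lt_succ_self n))
    let N := M ⧸ (pre g n • (⊤ : Submodule B M))
    haveI : Module.FinitePresentation B N := Module.finitePresentation_of_finite B N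
    obtain ⟨V, hV, hqV, hVq⟩ := exists_nhd_regAt_bot (R := R) (M := N) (g n) q (hUq q hqU).2
      ((regAt_quotient _ _ _).mpr (hreg n (Nat.lt_succ_self n)))
    refine ⟨U ∩ V, hU.inter hV, ⟨hqU, hqV⟩, fun q' hq' => ⟨fun i hi => ?_, ?_⟩⟩
    · rcases Nat.lt_succ_iff_lt_or_eq.mp hi with hi | rfl
      · exact (hUq q' hq'.1).1 i hi
      · exact (regAt_quotient _ _ _).mp (hVq q' hq'.2).1
    · have hpre : pre g (n + 1) = Ideal.span {g n} ⊔ pre g n := by
        rw [pre, pre, ← Ideal.span_union, Set.singleton_union, ← Set.image_insert_eq]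
        congr 2
        ext i; simp only [Set.mem_Iio, Set.mem_insert_iff]; omega
      let φ : M →ₗ[B] N ⧸ (Ideal.span {g n} • (⊤ : Submodule B N)) :=
        (Submodule.mkQ _).comp (Submodule.mkQ _)
      have hker : LinearMap.ker φ = pre g (n + 1) • (⊤ : Submodule B M) := by
        ext m
        rw [LinearMap.mem_ker, hpre]
        exact (Submodule.Quotient.mk_eq_zero _).trans (mk_mem_smul_top_iff _ _ m)
      exact mem_flatLocus_congr ((Submodule.quotEquivOfEq _ _ hker.symm).trans (φ.quotKerEquivOfSurjective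
        ((Submodule.mkQ_surjective _).comp (Submodule.mkQ_surjective _)))).symm (hVq q' hq'.2).2

end FibRegLib
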