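import Groth.Agent.FibRegLib.Alg
import Groth.Agent.FlatLib.QStalk
import Groth.Agent.FlatLib.Openness
import Groth.Agent.QCohLib.Coherent

/-!
# Openness of regularity of sections on the fibres
-/

set_option autoImplicit false
universe u

open CategoryTheory AlgebraicGeometry TopologicalSpace Opposite

noncomputable section

namespace FibRegLib

theorem isSMulRegular_quot_iff {R N : Type u} [CommRing R] [AddCommGroup N] [Module R N] (K : Submodule R N) (a : R) :
    IsSMulRegular (N ⧸ K) a ↔ ∀ σ : N, a • σ ∈ K → σ ∈ K := by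
  constructor
  · intro h σ hσ
    rw [← Submodule.Quotient.mk_eq_zero] at hσ ⊢
    exact h ((Submodule.Quotient.mk_smul _ _ _).symm.trans (hσ.trans (smul_zero a).symm))
  · intro h y z hyz
    obtain ⟨y, rfl⟩ := Submodule.Quotient.mk_surjective _ y
    obtain ⟨z, rfl⟩ := Submodule.Quotient.mk_surjective _ z
    change a • Submodule.Quotient.mk y = a • Submodule.Quotient.mk z at hyz
    rw [← Submodule.Quotient.mk_smul, ← Submodule.Quotient.mk_smul, Submodule.Quotient.eq, ← smul_sub] at hyz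
    exact (Submodule.Quotient.eq _).mpr (h _ hyz)

theorem regular_mod_iff {R N : Type u} [CommRing R] [AddCommGroup N] [Module R N] (J K : Ideal R) (a : R) :
    IsSMulRegular ((N ⧸ (J • (⊤ : Submodule R N))) ⧸ (K • (⊤ : Submodule R (N ⧸ (J • (⊤ : Submodule R N)))))) a ↔
      ∀ σ : N, a • σ ∈ (J ⊔ K) • (⊤ : Submodule R N) → σ ∈ (J ⊔ K) • (⊤ : Submodule R N) := by
  rw [isSMulRegular_quot_iff, sup_comm]
  constructor
  · intro h σ hσ
    rw [← mk_mem_smul_top_iff] at hσ ⊢
    exact h _ hσ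
  · intro h y hy
    obtain ⟨σ, rfl⟩ := Submodule.Quotient.mk_surjective _ y
    rw [← Submodule.Quotient.mk_smul, mk_mem_smul_top_iff] at hy
    exact (mk_mem_smul_top_iff _ _ _).mpr (h σ hy)

/-- Openness of regularity of a sequence of sections on the fibres of a flat coherent module. -/
theorem isOpen_regular_fibre {X Y : Scheme.{u}} [IsLocallyNoetherian Y] (f : X ⟶ Y)
    [LocallyOfFiniteType f] (F : X.Modules) (hF : Coh.IsCoh F) (hflat : FlatMod.IsFlatOver f F)
    (n : ℕ) (g : Fin n → Γ(X, ⊤)) :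
    IsOpen {x : X |
      RingTheory.Sequence.IsWeaklyRegular
        (↑(F.presheaf.stalk x) ⧸ (Ideal.map (f.stalkMap x).hom (IsLocalRing.maximalIdeal ↑(Y.presheaf.stalk (f x))) •
          (⊤ : Submodule ↑(X.presheaf.stalk x) ↑(F.presheaf.stalk x))))
        (List.ofFn fun i => (X.presheaf.germ ⊤ x trivial) (g i))} := by
  haveI : Coh.IsQCoh F := hF.1
  refine isOpen_iff_forall_mem_open.mpr fun x₀ hx₀ => ?_
  obtain ⟨U, hU, hxU⟩ := QCohLib.exists_affine_nhd (f x₀)
  obtain ⟨V, (hV : IsAffineOpen V), hxV, hle⟩ := Opens.isBasis_iff_nbhd.mp X.isBasis_affineOpens (U := f ⁻¹ᵁ U) (x := x₀) hxU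
  letI : Algebra Γ(Y, U) Γ(X, V) := (f.appLE U V hle).hom.toAlgebra
  letI : Module Γ(Y, U) Γ(F, V) := Module.compHom Γ(F, V) (algebraMap Γ(Y, U) Γ(X, V))
  haveI : IsScalarTower Γ(Y, U) Γ(X, V) Γ(F, V) := IsScalarTower.of_algebraMap_smul fun _ _ => rfl
  haveI : IsNoetherianRing Γ(Y, U) := IsLocallyNoetherian.component_noetherian ⟨U, hU⟩
  haveI : Algebra.FiniteType Γ(Y, U) Γ(X, V) := f.finiteType_appLE hU hV hle
  haveI : IsNoetherianRing Γ(X, V) := Algebra.FiniteType.isNoetherianRing Γ(Y, U) Γ(X, V)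
  haveI : Algebra.FinitePresentation Γ(Y, U) Γ(X, V) := Algebra.FinitePresentation.of_finiteType.mp inferInstance
  haveI : Module.Finite Γ(X, V) Γ(F, V) := QCohLib.finite_of_isFT hF.2 hV
  haveI : Module.FinitePresentation Γ(X, V) Γ(F, V) := Module.finitePresentation_of_finite _ _
  let g' : ℕ → Γ(X, V) := fun i =>
    if h : i < n then X.presheaf.map (homOfLE (le_top : V ≤ ⊤)).op (g ⟨i, h⟩) else 0
  have key : ∀ (x : X) (hx : x ∈ V),
      RingTheory.Sequence.IsWeaklyRegular
          (↑(F.presheaf.stalk x) ⧸ (Ideal.map (f.stalkMap x).hom (IsLocalRing.maximalIdeal ↑(Y.presheaf.stalk (f x))) •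
            (⊤ : Submodule ↑(X.presheaf.stalk x) ↑(F.presheaf.stalk x))))
          (List.ofFn fun i => (X.presheaf.germ ⊤ x trivial) (g i)) ↔
        ∀ i < n, RegAt Γ(Y, U) Γ(F, V) (pre g' i) (g' i) (hV.primeIdealOf ⟨x, hx⟩) := by
    intro x hx
    letI : Algebra Γ(X, V) (X.presheaf.stalk x) := (X.presheaf.germ V x hx).hom.toAlgebra
    letI := Module.compHom (F.presheaf.stalk x) (X.presheaf.germ V x hx).hom
    haveI : IsScalarTower Γ(X, V) (X.presheaf.stalk x) (F.presheaf.stalk x) :=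
      IsScalarTower.of_algebraMap_smul fun _ _ => rfl
    haveI := FlatLib.isLocalizedModule_germLin F hV hx
    letI : Algebra Γ(Y, U) (Y.presheaf.stalk (f x)) := (Y.presheaf.germ U (f x) (hle hx)).hom.toAlgebra
    haveI : IsLocalization.AtPrime (Y.presheaf.stalk (f x)) (hU.primeIdealOf ⟨f x, hle hx⟩).asIdeal :=
      hU.isLocalization_stalk ⟨f x, hle hx⟩
    have hm : Ideal.map (f.stalkMap x).hom (IsLocalRing.maximalIdeal ↑(Y.presheaf.stalk (f x))) =
        (fibIdeal Γ(Y, U) (hV.primeIdealOf ⟨x, hx⟩)).map (algebraMap Γ(X, V) (X.presheaf.stalk x)) := by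
      rw [← IsLocalization.AtPrime.map_eq_maximalIdeal (hU.primeIdealOf ⟨f x, hle hx⟩).asIdeal
        (Y.presheaf.stalk (f x)), Ideal.map_map, fibIdeal, Ideal.map_map]
      congr 1
      · refine RingHom.ext fun r => ?_
        show f.stalkMap x (Y.presheaf.germ U (f x) (hle hx) r) =
          X.presheaf.germ V x hx ((f.appLE U V hle).hom r)
        rw [Scheme.Hom.germ_stalkMap_apply]
        exact (TopCat.Presheaf.germ_res_apply X.presheaf _ _ _ _).symm
      · exact (congrArg PrimeSpectrum.asIdeal (IsAffineOpen.comap_primeIdealOf_appLE U hU V hV hle hx)).symm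
    have hgerm : ∀ j : Fin n, algebraMap Γ(X, V) (X.presheaf.stalk x) (g' j) = X.presheaf.germ ⊤ x trivial (g j) := by
      intro j
      show X.presheaf.germ V x hx (g' j) = _
      simp only [g', j.2, dite_true, Fin.eta]
      exact TopCat.Presheaf.germ_res_apply X.presheaf _ _ _ _
    have hlist : ∀ i, i < n → Ideal.ofList ((List.ofFn fun j => (X.presheaf.germ ⊤ x trivial) (g j)).take i) =
        (pre g' i).map (algebraMap Γ(X, V) (X.presheaf.stalk x)) := by
      intro i hi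
      rw [pre, Ideal.map_span]
      refine congrArg Ideal.span (Set.ext fun r => ?_)
      constructor
      · intro hr
        obtain ⟨j, hj, rfl⟩ := List.mem_take_iff_getElem.mp hr
        rw [List.length_ofFn] at hj
        refine ⟨g' j, ⟨j, (lt_min_iff.mp hj).1, rfl⟩, ?_⟩
        rw [List.getElem_ofFn]
        exact hgerm ⟨j, (lt_min_iff.mp hj).2⟩
      · rintro ⟨_, ⟨j, hj, rfl⟩, rfl⟩
        refine List.mem_take_iff_getElem.mpr ⟨j, by rw [List.length_ofFn]; exact lt_min hj (lt_trans hj hi), ?_⟩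
        rw [List.getElem_ofFn]
        exact (hgerm ⟨j, lt_trans hj hi⟩).symm
    have hmem : ∀ (K : Ideal Γ(X, V)) (σ : F.presheaf.stalk x),
        σ ∈ K.map (algebraMap Γ(X, V) (X.presheaf.stalk x)) • (⊤ : Submodule (X.presheaf.stalk x) (F.presheaf.stalk x)) ↔
          σ ∈ K • (⊤ : Submodule Γ(X, V) (F.presheaf.stalk x)) := fun K σ => by
      rw [← Submodule.restrictScalars_mem Γ(X, V), Ideal.smul_restrictScalars, Submodule.restrictScalars_top]
    rw [RingTheory.Sequence.isWeaklyRegular_iff_Fin]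
    constructor
    · intro h i hi m hm'
      have h2 := h ⟨i, by rw [List.length_ofFn]; exact hi⟩
      simp only [Fin.getElem_fin, List.getElem_ofFn] at h2
      rw [regular_mod_iff, hlist i hi, hm, ← Ideal.map_sup] at h2
      rw [← mem_smul_top_iff_of_isLocalizedModule (hV.primeIdealOf ⟨x, hx⟩).asIdeal (FlatLib.germLin F hx)] at hm' ⊢
      refine (hmem _ _).mp (h2 _ ((hmem _ _).mpr ?_))
      rw [map_smul] at hm'
      rw [← hgerm ⟨i, hi⟩, algebraMap_smul]
      exact hm'
    · intro h j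
      obtain ⟨i, hi⟩ := j
      have hi' : i < n := by rw [List.length_ofFn] at hi; exact hi
      simp only [Fin.getElem_fin, List.getElem_ofFn]
      rw [regular_mod_iff, hlist i hi', hm, ← Ideal.map_sup]
      intro σ hσ
      rw [← hgerm ⟨i, hi'⟩, algebraMap_smul, hmem] at hσ
      rw [hmem]
      obtain ⟨⟨m, s⟩, hms⟩ := IsLocalizedModule.surj (hV.primeIdealOf ⟨x, hx⟩).asIdeal.primeCompl (FlatLib.germLin F hx) σ
      change s.1 • σ = FlatLib.germLin F hx m at hms
      refine FlatLib.mem_smul_top_of_unit_smul _ s (ι := FlatLib.germLin F hx) ?_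
      rw [hms, mem_smul_top_iff_of_isLocalizedModule (hV.primeIdealOf ⟨x, hx⟩).asIdeal]
      refine h i hi' m ((mem_smul_top_iff_of_isLocalizedModule (hV.primeIdealOf ⟨x, hx⟩).asIdeal (FlatLib.germLin F hx) _ _).mp ?_)
      rw [map_smul, ← hms, smul_comm]
      exact Submodule.smul_mem _ _ hσ
  have hfl : ∀ q : PrimeSpectrum Γ(X, V), q ∈ FlatLib.flatLocus Γ(Y, U) Γ(X, V) Γ(F, V) := by
    intro q
    have hy : hV.fromSpec q ∈ V := hV.range_fromSpec.le ⟨q, rfl⟩
    have e : hV.primeIdealOf ⟨hV.fromSpec q, hy⟩ = q :=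
      hV.fromSpec.isOpenEmbedding.injective (hV.fromSpec_primeIdealOf _)
    rw [← e]
    exact (FlatLib.isFlatOverAt_iff f F U hU V hV hle hy rfl).mp (hflat _)
  obtain ⟨W, hW, hqW, hWreg⟩ := exists_nhd_regSeq (R := Γ(Y, U)) g' (hV.primeIdealOf ⟨x₀, hxV⟩) (hfl _)
    (by rw [show FlatLib.flatLocus Γ(Y, U) Γ(X, V) Γ(F, V) = Set.univ from Set.eq_univ_of_forall hfl]; exact isOpen_univ)
    n ((key x₀ hxV).mp hx₀)
  refine ⟨hV.fromSpec '' W, ?_, hV.fromSpec.isOpenEmbedding.isOpenMap _ hW,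
    ⟨_, hqW, hV.fromSpec_primeIdealOf _⟩⟩
  rintro _ ⟨q, hq, rfl⟩
  have hy : hV.fromSpec q ∈ V := hV.range_fromSpec.le ⟨q, rfl⟩
  have e : hV.primeIdealOf ⟨hV.fromSpec q, hy⟩ = q :=
    hV.fromSpec.isOpenEmbedding.injective (hV.fromSpec_primeIdealOf _)
  refine (key _ hy).mpr ?_
  rw [e]
  exact (hWreg q hq).1

end FibRegLib
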